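import Mathlib

/-!
Job piece C81A for S3913 (poster helper69): a group of linear automorphisms of `(Z/3)^4` that is
transitive on the additive subgroups of each fixed order has order divisible by 5 and 13
(there are 130 subgroups of order 9).
-/

set_option autoImplicit false

namespace Cfsg.Agent.Lib.Helper98.BG

open Pointwise

section Count

variable {V : Type*} [AddCommGroup V] [DecidableEq V]

/-- ordered pairs `(u, v)` of a finite set with `u ≠ 0` and `v ∉ {0, u, -u}` -/
def pairSet (A : Finset V) : Finset (V × V) :=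
  (A ×ˢ A).filter (fun p => p.1 ≠ 0 ∧ p.2 ≠ 0 ∧ p.2 ≠ p.1 ∧ p.2 ≠ -p.1)

theorem card_pairSet (A : Finset V) (h0 : (0 : V) ∈ A) (hneg : ∀ u ∈ A, -u ∈ A)
    (h2 : ∀ u : V, u ≠ 0 → -u ≠ u) :
    (pairSet A).card = (A.card - 1) * (A.card - 3) := by
  classical
  have hfib : ∀ u ∈ A.erase 0, ((pairSet A).filter (fun p => p.1 = u)).card = A.card - 3 := by
    intro u hu
    have hu0 : u ≠ 0 := (Finset.mem_erase.mp hu).1
    have huA : u ∈ A := (Finset.mem_erase.mp hu).2
    have himg : (pairSet A).filter (fun p => p.1 = u)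
        = (((A.erase 0).erase u).erase (-u)).image (fun v => (u, v)) := by
      ext p
      simp only [pairSet, Finset.mem_filter, Finset.mem_product, Finset.mem_image,
        Finset.mem_erase]
      constructor
      · rintro ⟨⟨⟨_, h2'⟩, _, h4, h5, h6⟩, rfl⟩
        exact ⟨p.2, ⟨h6, h5, h4, h2'⟩, rfl⟩
      · rintro ⟨v, ⟨h6, h5, h4, h2'⟩, rfl⟩
        exact ⟨⟨⟨huA, h2'⟩, hu0, h4, h5, h6⟩, rfl⟩
    rw [himg, Finset.card_image_of_injective _ (fun a b h => by simpa using h)]
    rw [Finset.card_erase_of_mem, Finset.card_erase_of_mem, Finset.card_erase_of_mem h0]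
    · omega
    · exact hu
    · simp only [Finset.mem_erase]
      exact ⟨h2 u hu0, neg_ne_zero.mpr hu0, hneg u huA⟩
  have hmap : ∀ p ∈ pairSet A, p.1 ∈ A.erase 0 := by
    intro p hp
    simp only [pairSet, Finset.mem_filter, Finset.mem_product] at hp
    exact Finset.mem_erase.mpr ⟨hp.2.1, hp.1.1⟩
  rw [Finset.card_eq_sum_card_fiberwise hmap, Finset.sum_congr rfl hfib, Finset.sum_const,
    Finset.card_erase_of_mem h0, smul_eq_mul]

end Count

theorem zmod3_cases : ∀ c : ZMod 3, c = 0 ∨ c = 1 ∨ c = -1 := by decide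

theorem zmod3_three : (3 : ZMod 3) = 0 := by decide

section Main

variable {V : Type*} [AddCommGroup V] [Module (ZMod 3) V]

theorem neg_ne_self3 (u : V) (hu : u ≠ 0) : -u ≠ u := by
  intro h
  apply hu
  have h3 : (3 : ZMod 3) • u = 0 := by rw [zmod3_three, zero_smul]
  have h2 : (2 : ZMod 3) • u = 0 := by
    rw [two_smul]
    nth_rewrite 1 [← h]
    simp
  have h1 : u = (3 : ZMod 3) • u - (2 : ZMod 3) • u := by
    rw [← sub_smul]
    norm_num
  rw [h1, h3, h2, sub_zero]

theorem zmod_smul_mem3 (P : AddSubgroup V) (a : ZMod 3) {u : V} (hu : u ∈ P) : a • u ∈ P := by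
  have h : a • u = a.val • u := by
    rw [← Nat.cast_smul_eq_nsmul (ZMod 3), ZMod.natCast_zmod_val]
  rw [h]
  exact P.nsmul_mem hu _

/-- the map `(a, b) ↦ a u + b v` -/
def psi (u v : V) : ZMod 3 × ZMod 3 →ₗ[ZMod 3] V :=
  (LinearMap.toSpanSingleton (ZMod 3) V u).coprod (LinearMap.toSpanSingleton (ZMod 3) V v)

theorem psi_apply (u v : V) (a b : ZMod 3) : psi u v (a, b) = a • u + b • v := by
  simp [psi, LinearMap.coprod_apply, LinearMap.toSpanSingleton_apply]

theorem psi_injective (u v : V) (hu : u ≠ 0) (hv0 : v ≠ 0) (hvu : v ≠ u) (hvn : v ≠ -u) :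
    Function.Injective (psi u v) := by
  rw [← LinearMap.ker_eq_bot, LinearMap.ker_eq_bot']
  rintro ⟨a, b⟩ h
  rw [psi_apply] at h
  have hb : b = 0 := by
    by_contra hb
    have hv : v = (-(b⁻¹ * a)) • u := by
      have h' : b • v = -(a • u) := eq_neg_of_add_eq_zero_right h
      calc v = b⁻¹ • (b • v) := by rw [smul_smul, inv_mul_cancel₀ hb, one_smul]
        _ = _ := by rw [h', smul_neg, smul_smul, neg_smul]
    rcases zmod3_cases (-(b⁻¹ * a)) with h0 | h1 | h1
    · rw [h0, zero_smul] at hv; exact hv0 hv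
    · rw [h1, one_smul] at hv; exact hvu hv
    · rw [h1, neg_smul, one_smul] at hv; exact hvn hv
  subst hb
  rw [zero_smul, add_zero] at h
  have ha : a = 0 := by
    by_contra ha
    apply hu
    calc u = a⁻¹ • (a • u) := by rw [smul_smul, inv_mul_cancel₀ ha, one_smul]
      _ = 0 := by rw [h, smul_zero]
  rw [ha]
  rfl

/-- the subgroup `{a u + b v}` -/
def pl (u v : V) : AddSubgroup V := (LinearMap.range (psi u v)).toAddSubgroup

theorem mem_pl (u v w : V) : w ∈ pl u v ↔ ∃ a b : ZMod 3, a • u + b • v = w := by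
  simp only [pl, Submodule.mem_toAddSubgroup, LinearMap.mem_range, Prod.exists, psi_apply]

theorem card_pl (u v : V) (hu : u ≠ 0) (hv0 : v ≠ 0) (hvu : v ≠ u) (hvn : v ≠ -u) :
    Nat.card (pl u v) = 9 := by
  have hc : Nat.card (pl u v) = Nat.card (Set.range (psi u v)) := by
    apply Nat.card_congr
    refine Equiv.setCongr ?_
    ext w
    simp [pl]
  rw [hc, Nat.card_range_of_injective (psi_injective u v hu hv0 hvu hvn), Nat.card_prod,
    Nat.card_zmod]

theorem card_smul3 (g : V ≃ₗ[ZMod 3] V) (P : AddSubgroup V) :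
    Nat.card (g • P : AddSubgroup V) = Nat.card P := by
  have h2 : Nat.card (AddSubgroup.map (g.toLinearMap.toAddMonoidHom) P) = Nat.card P :=
    AddSubgroup.card_map_of_injective g.injective
  exact h2

theorem card_dvd_81 {V : Type*} [AddCommGroup V] [Module (ZMod 3) V] [Finite V]
    (hV : Nat.card V = 81)
    (Γ : Subgroup (V ≃ₗ[ZMod 3] V))
    (htr : ∀ U U' : AddSubgroup V, Nat.card ↥U = Nat.card ↥U' → ∃ g ∈ Γ, ∀ u ∈ U, g u ∈ U') :
    5 ∣ Nat.card ↥Γ ∧ 13 ∣ Nat.card ↥Γ := by
  classical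
  have : Fintype V := Fintype.ofFinite V
  have : Fintype (AddSubgroup V) := Fintype.ofFinite _
  have hVc : (Finset.univ : Finset V).card = 81 := by
    rw [Finset.card_univ, ← Nat.card_eq_fintype_card, hV]
  set S : Finset (AddSubgroup V) := Finset.univ.filter (fun P => Nat.card P = 9) with hS
  have hX : (pairSet (Finset.univ : Finset V)).card = 6240 := by
    rw [card_pairSet _ (Finset.mem_univ _) (fun u _ => Finset.mem_univ _) neg_ne_self3, hVc]
  have hmap : ∀ p ∈ pairSet (Finset.univ : Finset V), pl p.1 p.2 ∈ S := by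
    intro p hp
    simp only [pairSet, Finset.mem_filter] at hp
    rw [hS, Finset.mem_filter]
    exact ⟨Finset.mem_univ _, card_pl _ _ hp.2.1 hp.2.2.1 hp.2.2.2.1 hp.2.2.2.2⟩
  have hfib : ∀ P ∈ S,
      ((pairSet (Finset.univ : Finset V)).filter (fun p => pl p.1 p.2 = P)).card = 48 := by
    intro P hP
    rw [hS, Finset.mem_filter] at hP
    have hPc : (Finset.univ.filter (fun x => x ∈ P)).card = 9 := by
      rw [← hP.2, Nat.card_eq_fintype_card, Fintype.card_subtype]
    have heq : (pairSet (Finset.univ : Finset V)).filter (fun p => pl p.1 p.2 = P)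
        = pairSet (Finset.univ.filter (fun x => x ∈ P)) := by
      ext p
      simp only [pairSet, Finset.mem_filter, Finset.mem_product, Finset.mem_univ, true_and]
      constructor
      · rintro ⟨⟨h1, h2, h3, h4⟩, rfl⟩
        refine ⟨⟨?_, ?_⟩, h1, h2, h3, h4⟩
        · exact (mem_pl _ _ _).mpr ⟨1, 0, by simp⟩
        · exact (mem_pl _ _ _).mpr ⟨0, 1, by simp⟩
      · rintro ⟨⟨hu, hv⟩, h1, h2, h3, h4⟩
        refine ⟨⟨h1, h2, h3, h4⟩, ?_⟩
        apply AddSubgroup.eq_of_le_of_card_ge
        · intro w hw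
          obtain ⟨a, b, rfl⟩ := (mem_pl _ _ _).mp hw
          exact P.add_mem (zmod_smul_mem3 P a hu) (zmod_smul_mem3 P b hv)
        · rw [card_pl _ _ h1 h2 h3 h4, hP.2]
    rw [heq, card_pairSet _ (by simp [P.zero_mem]) (fun u hu => by simpa using hu) neg_ne_self3,
      hPc]
  have hcount : 48 * S.card = 6240 := by
    rw [← hX, Finset.card_eq_sum_card_fiberwise hmap, Finset.sum_congr rfl hfib, Finset.sum_const,
      smul_eq_mul, mul_comm]
  have hScard : S.card = 130 := by omega
  obtain ⟨P0, hP0⟩ : S.Nonempty := Finset.card_pos.mp (by omega)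
  have hP0' : Nat.card P0 = 9 := by
    rw [hS, Finset.mem_filter] at hP0
    exact hP0.2
  have horb : MulAction.orbit Γ P0 = (S : Set (AddSubgroup V)) := by
    ext P
    simp only [MulAction.mem_orbit_iff, Finset.mem_coe, hS, Finset.mem_filter, Finset.mem_univ,
      true_and]
    constructor
    · rintro ⟨g, rfl⟩
      have h1 : g • P0 = (g : V ≃ₗ[ZMod 3] V) • P0 := rfl
      rw [h1, card_smul3, hP0']
    · intro hP
      obtain ⟨g, hg, hgP⟩ := htr P0 P (by rw [hP0', hP])
      refine ⟨⟨g, hg⟩, ?_⟩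
      have h1 : (⟨g, hg⟩ : Γ) • P0 = g • P0 := rfl
      rw [h1]
      apply AddSubgroup.eq_of_le_of_card_ge
      · intro w hw
        obtain ⟨s, hs, rfl⟩ := (AddSubgroup.mem_smul_pointwise_iff_exists _ _ _).mp hw
        exact hgP s hs
      · rw [card_smul3, hP0', hP]
  have hdvd : S.card ∣ Nat.card Γ := by
    have h1 := MulAction.index_stabilizer Γ P0
    rw [horb, Set.ncard_coe_finset] at h1
    rw [← h1]
    exact Subgroup.index_dvd_card _
  rw [hScard] at hdvd
  exact ⟨dvd_trans (by norm_num) hdvd, dvd_trans (by norm_num) hdvd⟩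

end Main

end Cfsg.Agent.Lib.Helper98.BG
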